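import Mathlib
import Cfsg.Agent.H64.RealGraph.Coprime
import Cfsg.Agent.H64.RealGraph.Residual
import Cfsg.Agent.S0007
import Cfsg.Agent.S3861

/-!
Structure of a group whose real-class-size graph is disconnected.
-/

set_option autoImplicit false

namespace Cfsg.Agent.H64.RealGraph

open Subgroup

universe u

variable {G : Type u} [Group G]

/-- The sizes of the classes of real elements. -/
abbrev realSizes (G : Type*) [Group G] : Set ℕ :=
  {n : ℕ | ∃ x : G, IsConj x x⁻¹ ∧ (centralizer ({x} : Set G)).index = n}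

theorem isConj_inv_of_sq {x : G} (h : x * x = 1) : IsConj x x⁻¹ := by
  rw [inv_eq_of_mul_eq_one_right h]

theorem orderOf_two_pow_of_sq {x : G} (h : x * x = 1) : ∃ k : ℕ, orderOf x = 2 ^ k := by
  obtain ⟨k, -, hk⟩ := (Nat.dvd_prime_pow Nat.prime_two).1
    (show orderOf x ∣ 2 ^ 1 from orderOf_dvd_of_pow_eq_one (by rw [pow_one, pow_two, h]))
  exact ⟨k, hk⟩

theorem ne_inv_of_odd {x : G} (hx : x ≠ 1) (hodd : Odd (orderOf x)) : x ≠ x⁻¹ := fun h => by
  have h2 : orderOf x ∣ 2 := orderOf_dvd_of_pow_eq_one (by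
    rw [pow_two]; nth_rw 2 [h]; exact mul_inv_cancel x)
  exact hx (orderOf_eq_one_iff.1
    (Nat.eq_one_of_dvd_coprimes (Nat.coprime_two_right.2 hodd) dvd_rfl h2))

theorem mem_cent {x g : G} : g ∈ centralizer ({x} : Set G) ↔ g * x * g⁻¹ = x := by
  rw [mem_centralizer_singleton_iff, mul_inv_eq_iff_eq_mul]

/-- A real element different from its inverse has a class of even size. -/
theorem two_dvd_index {x : G} (hxx : x ≠ x⁻¹) (hreal : IsConj x x⁻¹) :
    2 ∣ (centralizer ({x} : Set G)).index := by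
  obtain ⟨t, ht⟩ := isConj_iff.1 hreal
  let K : Subgroup G :=
    { carrier := {g | g * x * g⁻¹ = x ∨ g * x * g⁻¹ = x⁻¹}
      one_mem' := Or.inl (by group)
      mul_mem' := fun {a b} ha hb => by
        have e : a * b * x * (a * b)⁻¹ = a * (b * x * b⁻¹) * a⁻¹ := by group
        rcases hb with hb | hb <;> rcases ha with ha | ha
        · exact Or.inl (by rw [e, hb, ha])
        · exact Or.inr (by rw [e, hb, ha])
        · exact Or.inr (by rw [e, hb, ← conj_inv, ha])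
        · exact Or.inl (by rw [e, hb, ← conj_inv, ha, inv_inv])
      inv_mem' := fun {a} ha => by
        rcases ha with ha | ha
        · refine Or.inl ?_
          calc a⁻¹ * x * a⁻¹⁻¹ = a⁻¹ * (a * x * a⁻¹) * a⁻¹⁻¹ := by rw [ha]
            _ = x := by group
        · refine Or.inr ?_
          have h' : a * x⁻¹ * a⁻¹ = x := by rw [← conj_inv, ha, inv_inv]
          calc a⁻¹ * x * a⁻¹⁻¹ = a⁻¹ * (a * x⁻¹ * a⁻¹) * a⁻¹⁻¹ := by rw [h']
            _ = x⁻¹ := by group }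
  have hle : centralizer ({x} : Set G) ≤ K := fun g hg => Or.inl (mem_cent.1 hg)
  rw [← relIndex_mul_index hle]
  refine Dvd.dvd.mul_right (dvd_of_eq ?_) _
  refine (index_eq_two_iff.2 ⟨⟨t, Or.inr ht⟩, fun b => ?_⟩).symm
  have e : (b : G) * t * x * ((b : G) * t)⁻¹ = ((b : G) * x * (b : G)⁻¹)⁻¹ := by
    calc _ = (b : G) * (t * x * t⁻¹) * (b : G)⁻¹ := by group
      _ = _ := by rw [ht]; group
  simp only [mem_subgroupOf, Subgroup.coe_mul, mem_cent, e]
  rcases b.2 with h | h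
  · exact Or.inr ⟨h, fun h' => hxx (by rw [h] at h'; exact h'.symm)⟩
  · exact Or.inl ⟨by rw [h, inv_inv], fun h' => hxx (by rw [h] at h'; exact h'.symm)⟩

theorem relIndex_dvd_index_of_right_normal [Finite G] (C K : Subgroup G) [K.Normal] :
    C.relIndex K ∣ C.index := by
  have h1 := relIndex_mul_relIndex (C ⊓ K) K (C ⊔ K) inf_le_right le_sup_right
  have h2 := relIndex_mul_relIndex (C ⊓ K) C (C ⊔ K) inf_le_left le_sup_left
  rw [inf_relIndex_right, relIndex_sup_right] at h1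
  rw [inf_relIndex_left] at h2
  rw [← h2, mul_comm] at h1
  have hne : K.relIndex C ≠ 0 := FiniteIndex.index_ne_zero
  rw [mul_left_cancel₀ hne h1]
  exact relIndex_dvd_index_of_le le_sup_left

theorem twoGen_normal [Finite G] : (twoGen G).Normal := by
  refine normalizer_eq_top_iff.1 (eq_top_iff.2 fun g _ => mem_normalizer_of_conj_mem ?_)
  intro y hy
  have : (twoGen G).map (MulAut.conj g).toMonoidHom ≤ twoGen G := by
    rw [MonoidHom.map_closure, closure_le]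
    rintro _ ⟨z, ⟨l, hl⟩, rfl⟩
    exact subset_closure ⟨l, ((MulAut.conj g).orderOf_eq z).trans hl⟩
  exact this ⟨y, hy, rfl⟩

/-- The odd part: a nontrivial real element of odd order lies in `twoGen` and is real there. -/
theorem real_mem_twoGen [Finite G] {x : G} (hodd : Odd (orderOf x)) (hreal : IsConj x x⁻¹) :
    ∃ hx : x ∈ twoGen G, IsConj (⟨x, hx⟩ : twoGen G) (⟨x, hx⟩ : twoGen G)⁻¹ := by
  obtain ⟨i, hi⟩ := isConj_iff.1 hreal
  obtain ⟨k, m, hm, hkm⟩ := Nat.exists_eq_two_pow_mul_odd (orderOf_pos i).ne'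
  have hpow : ∀ n : ℕ, i ^ n * x * (i ^ n)⁻¹ = if Even n then x else x⁻¹ := by
    intro n
    induction n with
    | zero => simp
    | succ n ih =>
      rw [pow_succ']
      calc _ = i * (i ^ n * x * (i ^ n)⁻¹) * i⁻¹ := by group
        _ = _ := by
          rw [ih]
          by_cases hn : Even n
          · simp [hn, Nat.even_add_one, hi]
          · simp only [hn, if_false, Nat.even_add_one, not_false_eq_true, if_true]
            rw [← conj_inv, hi, inv_inv]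
  have hj := hpow m
  rw [if_neg (Nat.not_even_iff_odd.2 hm)] at hj
  have hjK : i ^ m ∈ twoGen G := subset_closure ⟨k, by
    rw [orderOf_pow' _ hm.pos.ne', hkm, Nat.gcd_eq_right (Dvd.intro_left _ rfl),
      Nat.mul_div_cancel _ hm.pos]⟩
  set j := i ^ m
  have hn : (twoGen G).Normal := twoGen_normal
  have h2 : x ^ 2 ∈ twoGen G := by
    have e : x ^ 2 = (j * (x * j⁻¹ * x⁻¹))⁻¹ := by
      rw [← mul_assoc, ← mul_assoc, hj]; group
    rw [e]
    exact inv_mem (mul_mem hjK (hn.conj_mem _ (inv_mem hjK) x))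
  have hx : x ∈ twoGen G := by
    obtain ⟨r, hr⟩ := hodd
    have : x ^ orderOf x = x * (x ^ 2) ^ r := by rw [hr, ← pow_mul, ← pow_succ']
    rw [pow_orderOf_eq_one] at this
    rw [eq_inv_of_mul_eq_one_left this.symm]
    exact inv_mem (pow_mem h2 r)
  exact ⟨hx, isConj_iff.2 ⟨⟨j, hjK⟩, Subtype.ext (by simpa using hj)⟩⟩

section

variable [Finite G] {π₁ π₂ : Set ℕ}

/-- Some real class size is even. -/
theorem exists_even (h₁ : π₁.Nonempty) (h₂ : π₂.Nonempty)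
    (hsub : ∀ q ∈ π₁ ∪ π₂, q.Prime ∧ ∃ n ∈ realSizes G, q ∣ n)
    (hcover : ∀ q : ℕ, q.Prime → (∃ n ∈ realSizes G, q ∣ n) → q ∈ π₁ ∨ q ∈ π₂)
    (hnoedge : ∀ a ∈ π₁, ∀ b ∈ π₂, ∀ n ∈ realSizes G, ¬ (a ∣ n ∧ b ∣ n)) :
    ∃ n ∈ realSizes G, 2 ∣ n := by
  by_contra hno
  push Not at hno
  have hinv : ∀ x : G, IsConj x x⁻¹ → x * x = 1 := fun x hx => by
    by_contra h
    exact hno _ ⟨x, hx, rfl⟩ (two_dvd_index (fun e => h (mul_eq_one_iff_eq_inv.2 e)) hx)
  obtain ⟨T⟩ := (inferInstance : Nonempty (Sylow 2 G))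
  haveI hTn : (T : Subgroup G).Normal := (S3861.result T).1 fun x hx hodd hr =>
    ne_inv_of_odd hx hodd (mul_eq_one_iff_eq_inv.1 (hinv x hr))
  have hTC : ∀ v : G, v * v = 1 → (T : Subgroup G) ≤ centralizer ({v} : Set G) := fun v hv => by
    rw [← relIndex_eq_one]
    obtain ⟨e, he⟩ := IsPGroup.iff_card.1 T.isPGroup'
    obtain ⟨l, -, hl⟩ := (Nat.dvd_prime_pow Nat.prime_two).1
      (he ▸ (relIndex_dvd_card (centralizer ({v} : Set G)) (T : Subgroup G)))
    cases l with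
    | zero => simpa using hl
    | succ l =>
      exfalso
      refine hno _ ⟨v, isConj_inv_of_sq hv, rfl⟩ ?_
      refine Dvd.dvd.trans ?_ (relIndex_dvd_index_of_right_normal _ (T : Subgroup G))
      rw [hl, pow_succ]
      exact Dvd.intro_left _ rfl
  have hmemT : ∀ v : G, v * v = 1 → v ∈ (T : Subgroup G) := fun v hv => by
    obtain ⟨k, hk⟩ := orderOf_two_pow_of_sq hv
    have hgp : IsPGroup 2 (zpowers v) := IsPGroup.of_card (n := k) (by rw [Nat.card_zpowers, hk])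
    obtain ⟨U, hU⟩ := hgp.exists_le_sylow
    letI := Sylow.unique_of_normal T hTn
    rw [Subsingleton.elim U T] at hU
    exact hU (mem_zpowers v)
  have hcomm : ∀ v w : G, v * v = 1 → w * w = 1 → v * w = w * v := fun v w hv hw =>
    (mem_centralizer_singleton_iff.1 (hTC w hw (hmemT v hv)))
  let V : Subgroup G :=
    { carrier := {v | v * v = 1}
      one_mem' := one_mul 1
      mul_mem' := fun {a b} ha hb => by
        change a * b * (a * b) = 1
        rw [mul_assoc, ← mul_assoc b, ← hcomm a b ha hb, mul_assoc a b b, hb, mul_one, ha]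
      inv_mem' := fun {a} ha => by
        change a⁻¹ * a⁻¹ = 1
        rw [← mul_inv_rev, ha, inv_one] }
  haveI hVn : V.Normal := ⟨fun v hv g => by
    change g * v * g⁻¹ * (g * v * g⁻¹) = 1
    rw [show g * v * g⁻¹ * (g * v * g⁻¹) = g * (v * v) * g⁻¹ by group, hv]
    group⟩
  letI : CommGroup V :=
    { (inferInstance : Group V) with
      mul_comm := fun a b => Subtype.ext (hcomm a b a.2 b.2) }
  let ψ : G ⧸ (T : Subgroup G) →* MulAut V :=
    QuotientGroup.lift (T : Subgroup G) MulAut.conjNormal fun s hs => by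
      ext v
      rw [MulAut.conjNormal_apply, MulAut.one_apply]
      rw [mem_centralizer_singleton_iff.1 (hTC v v.2 hs), mul_inv_cancel_right]
  letI : MulDistribMulAction (G ⧸ (T : Subgroup G)) V := MulDistribMulAction.compHom V ψ
  have hD : Odd (Nat.card (G ⧸ (T : Subgroup G))) := by
    rw [← index_eq_card]
    exact Nat.odd_iff.2 (Nat.two_dvd_ne_zero.1 T.not_dvd_index)
  have hst : ∀ v : V, (MulAction.stabilizer (G ⧸ (T : Subgroup G)) v).index =
      (centralizer ({(v : G)} : Set G)).index := fun v => by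
    rw [← index_comap_of_surjective (f := QuotientGroup.mk' (T : Subgroup G)) _
      (QuotientGroup.mk'_surjective _)]
    congr 1
    ext g
    rw [mem_comap, MulAction.mem_stabilizer_iff, mem_cent, ← Subtype.coe_inj]
    rfl
  obtain ⟨a, ha⟩ := h₁
  obtain ⟨b, hb⟩ := h₂
  obtain ⟨hap, _, ⟨v, hv, rfl⟩, hav⟩ := hsub a (Or.inl ha)
  obtain ⟨hbp, _, ⟨w, hw, rfl⟩, hbw⟩ := hsub b (Or.inr hb)
  have hco : (centralizer ({v} : Set G)).index.Coprime (centralizer ({w} : Set G)).index :=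
    Nat.coprime_of_dvd fun c hc hcv hcw => by
      rcases hcover c hc ⟨_, ⟨v, hv, rfl⟩, hcv⟩ with h | h
      · exact hnoedge c h b hb _ ⟨w, hw, rfl⟩ ⟨hcw, hbw⟩
      · exact hnoedge a ha c h _ ⟨v, hv, rfl⟩ ⟨hav, hcv⟩
  obtain ⟨z, hz⟩ := exists_stabilizer_index hD (fun x : V => Subtype.ext x.2)
    (fun A B h => S0007.result A B h) ⟨v, hinv v hv⟩ ⟨w, hinv w hw⟩
    (by rw [hst, hst]; exact hco)
  rw [hst, hst, hst] at hz
  exact hnoedge a ha b hb _ ⟨z, isConj_inv_of_sq z.2, hz⟩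
    ⟨hav.mul_right _, hbw.mul_left _⟩

/-- Main structure, when `2` is in the first part. -/
theorem structure_of_two_mem (hsolv : Group.IsSolvable G) (h2 : 2 ∈ π₁) (h₂ : π₂.Nonempty)
    (hdisj : Disjoint π₁ π₂)
    (hsub : ∀ q ∈ π₁ ∪ π₂, q.Prime ∧ ∃ n ∈ realSizes G, q ∣ n)
    (hcover : ∀ q : ℕ, q.Prime → (∃ n ∈ realSizes G, q ∣ n) → q ∈ π₁ ∨ q ∈ π₂)
    (hnoedge : ∀ a ∈ π₁, ∀ b ∈ π₂, ∀ n ∈ realSizes G, ¬ (a ∣ n ∧ b ∣ n)) :
    (∀ P : Sylow 2 G, (P : Subgroup G).Normal) ∨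
      ((∃ ρ₁ ρ₂ : Set ℕ, ρ₁.Nonempty ∧ ρ₂.Nonempty ∧ Disjoint ρ₁ ρ₂ ∧
          (∀ q ∈ ρ₁ ∪ ρ₂, q.Prime ∧ ∃ n ∈ realSizes (twoGen G), q ∣ n) ∧
          (∀ q : ℕ, q.Prime → (∃ n ∈ realSizes (twoGen G), q ∣ n) → q ∈ ρ₁ ∨ q ∈ ρ₂) ∧
          ∀ a ∈ ρ₁, ∀ b ∈ ρ₂, ∀ n ∈ realSizes (twoGen G), ¬ (a ∣ n ∧ b ∣ n)) ∧
        ∀ n ∈ realSizes (twoGen G), Odd n ∨ ∃ j : ℕ, n = 2 ^ j) := by
  by_cases hT : ∀ P : Sylow 2 G, (P : Subgroup G).Normal
  · exact Or.inl hT
  refine Or.inr ?_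
  push Not at hT
  obtain ⟨T, hT⟩ := hT
  obtain ⟨b, hb⟩ := h₂
  obtain ⟨hbp, _, ⟨t, htr, rfl⟩, hbm⟩ := hsub b (Or.inr hb)
  set m := (centralizer ({t} : Set G)).index with hm
  have hm2 : ¬ 2 ∣ m := fun h => hnoedge 2 h2 b hb m ⟨t, htr, rfl⟩ ⟨h, hbm⟩
  have ht2 : t * t = 1 := by
    by_contra h
    exact hm2 (two_dvd_index (fun e => h (mul_eq_one_iff_eq_inv.2 e)) htr)
  -- no nontrivial real element of odd order commutes with `t`
  have hkey : ∀ y : G, y ≠ 1 → Odd (orderOf y) → IsConj y y⁻¹ → y * t = t * y → False := by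
    intro y hy hodd hyr hyt
    have h2y : 2 ∣ (centralizer ({y} : Set G)).index := two_dvd_index (ne_inv_of_odd hy hodd) hyr
    have hco : (centralizer ({t} : Set G)).index.Coprime (centralizer ({y} : Set G)).index :=
      Nat.coprime_of_dvd fun c hc hct hcy => by
        rcases hcover c hc ⟨_, ⟨t, htr, rfl⟩, hct⟩ with h | h
        · exact hnoedge c h b hb m ⟨t, htr, rfl⟩ ⟨hct, hbm⟩
        · exact hnoedge 2 h2 c h _ ⟨y, hyr, rfl⟩ ⟨h2y, hcy⟩
    obtain ⟨i, hi⟩ := isConj_iff.1 hyr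
    obtain ⟨g, hg, c, hc, rfl⟩ := (S0007.result _ _ hco).2 i
    rw [mem_cent] at hc
    have hgy : g * y * g⁻¹ = y⁻¹ := by
      rw [← hi]
      conv_lhs => rw [← hc]
      group
    have hcty : Commute t y := hyt.symm
    have hz : IsConj (t * y) (t * y)⁻¹ := by
      refine isConj_iff.2 ⟨g, ?_⟩
      calc g * (t * y) * g⁻¹ = (g * t * g⁻¹) * (g * y * g⁻¹) := by group
        _ = t * y⁻¹ := by rw [mem_cent.1 hg, hgy]
        _ = (t * y)⁻¹ := by
          rw [mul_inv_rev, inv_eq_of_mul_eq_one_right ht2, hcty.inv_right.eq]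
    have hle : centralizer ({t * y} : Set G) ≤
        centralizer ({t} : Set G) ⊓ centralizer ({y} : Set G) := fun x hx => by
      rw [mem_centralizer_singleton_iff] at hx
      have hxt : Commute x ((t * y) ^ orderOf y) := Commute.pow_right hx _
      rw [hcty.mul_pow, pow_orderOf_eq_one, mul_one, pow_odd_eq ht2 hodd] at hxt
      refine mem_inf.2 ⟨mem_centralizer_singleton_iff.2 hxt, mem_centralizer_singleton_iff.2 ?_⟩
      have h3 : Commute x (t⁻¹ * (t * y)) := hxt.inv_right.mul_right hx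
      rwa [inv_mul_cancel_left] at h3
    exact hnoedge 2 h2 b hb _ ⟨t * y, hz, rfl⟩
      ⟨h2y.trans (index_dvd_of_le (hle.trans inf_le_right)),
       hbm.trans (index_dvd_of_le (hle.trans inf_le_left))⟩
  -- no nontrivial real `q`-element for odd `q` in the first part
  have hnoreal : ∀ q ∈ π₁, q ≠ 2 → NoReal q G := by
    intro q hq hq2 y hy hyr
    obtain ⟨k, hk⟩ := hy
    by_contra hy1
    have hqp := (hsub q (Or.inl hq)).1
    haveI := Fact.mk hqp
    obtain ⟨l, -, hl⟩ := (Nat.dvd_prime_pow hqp).1 (orderOf_dvd_of_pow_eq_one hk)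
    have hZ : IsPGroup q (zpowers y) := IsPGroup.of_card (n := l) (by rw [Nat.card_zpowers, hl])
    obtain ⟨gc, hgc⟩ := hZ.nonempty_fixed_point_of_prime_not_dvd_card
      (G ⧸ centralizer ({t} : Set G))
      (by rw [← index_eq_card]; exact fun h => hnoedge q hq b hb m ⟨t, htr, rfl⟩ ⟨h, hbm⟩)
    obtain ⟨g, rfl⟩ := QuotientGroup.mk_surjective gc
    have hgy : g⁻¹ * y * g ∈ centralizer ({t} : Set G) := by
      have h := QuotientGroup.eq.1 (hgc ⟨y, mem_zpowers y⟩).symm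
      simpa [mul_assoc] using h
    have hconj : IsConj y (g⁻¹ * y * g) := isConj_iff.2 ⟨g⁻¹, by group⟩
    refine hkey (g⁻¹ * y * g) (fun h => hy1 ?_) ?_ ?_ (mem_centralizer_singleton_iff.1 hgy)
    · exact isConj_one_right.1 (h ▸ hconj).symm
    · have ho : orderOf (g⁻¹ * y * g) = orderOf y := by
        have := (MulAut.conj g⁻¹).orderOf_eq y
        simpa [MulAut.conj_apply] using this
      rw [ho, hl]
      exact (hqp.odd_of_ne_two hq2).pow
    · refine hconj.symm.trans (hyr.trans (isConj_iff.2 ⟨g⁻¹, ?_⟩))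
      group
  haveI hKn : (twoGen G).Normal := twoGen_normal
  have hK : ∀ x : twoGen G, IsConj x x⁻¹ → IsConj (x : G) (x : G)⁻¹ ∧
      (centralizer ({x} : Set (twoGen G))).index ∣ (centralizer ({(x : G)} : Set G)).index := by
    intro x hx
    refine ⟨by simpa using (twoGen G).subtype.map_isConj hx, ?_⟩
    have e : centralizer ({x} : Set (twoGen G)) =
        (centralizer ({(x : G)} : Set G)).subgroupOf (twoGen G) := by
      ext g
      simp [mem_subgroupOf, mem_centralizer_singleton_iff, Subtype.ext_iff]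
    rw [e]
    exact relIndex_dvd_index_of_right_normal _ _
  have hpow : ∀ n ∈ realSizes (twoGen G), Odd n ∨ ∃ j : ℕ, n = 2 ^ j := by
    rintro n ⟨x, hx, rfl⟩
    rcases Nat.even_or_odd (centralizer ({x} : Set (twoGen G))).index with he | ho
    swap
    · exact Or.inl ho
    rcases Nat.eq_two_pow_or_exists_odd_prime_and_dvd
      (centralizer ({x} : Set (twoGen G))).index with h | ⟨p, hp, hpd, hpodd⟩
    · exact Or.inr h
    exfalso
    obtain ⟨hxr, hdvd⟩ := hK x hx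
    have hp2 : p ≠ 2 := fun h => by rw [h] at hpodd; exact absurd hpodd (by decide)
    haveI := Fact.mk hp
    rcases hcover p hp ⟨_, ⟨x, hxr, rfl⟩, hpd.trans hdvd⟩ with h | h
    · exact not_dvd_card_twoGen hp2 (hnoreal p h hp2) (hpd.trans (index_dvd_card _))
    · exact hnoedge 2 h2 p h _ ⟨x, hxr, rfl⟩ ⟨he.two_dvd.trans hdvd, hpd.trans hdvd⟩
  obtain ⟨x, hx1, hxodd, hxr⟩ : ∃ x : G, x ≠ 1 ∧ Odd (orderOf x) ∧ IsConj x x⁻¹ := by
    by_contra h
    push Not at h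
    exact hT ((S3861.result T).1 h)
  obtain ⟨hxK, hxrK⟩ := real_mem_twoGen hxodd hxr
  have htK : t ∈ twoGen G := subset_closure (orderOf_two_pow_of_sq ht2)
  have htrK : IsConj (⟨t, htK⟩ : twoGen G) (⟨t, htK⟩ : twoGen G)⁻¹ :=
    isConj_inv_of_sq (Subtype.ext ht2)
  refine ⟨⟨{2}, {q | q.Prime ∧ q ≠ 2 ∧ ∃ n ∈ realSizes (twoGen G), q ∣ n}, ⟨2, rfl⟩, ?_,
    Set.disjoint_singleton_left.2 fun h => h.2.1 rfl, ?_, ?_, ?_⟩, hpow⟩
  · set n := (centralizer ({⟨t, htK⟩} : Set (twoGen G))).index with hn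
    have hn1 : n ≠ 1 := fun h => by
      rw [hn, index_eq_one] at h
      have hmem : (⟨x, hxK⟩ : twoGen G) ∈ centralizer ({⟨t, htK⟩} : Set (twoGen G)) := by
        rw [h]; trivial
      exact hkey x hx1 hxodd hxr
        (congrArg Subtype.val (mem_centralizer_singleton_iff.1 hmem))
    obtain ⟨q, hq, hqn⟩ := Nat.exists_prime_and_dvd hn1
    refine ⟨q, hq, fun h => hm2 ?_, n, ⟨_, htrK, rfl⟩, hqn⟩
    rw [← h]
    exact hqn.trans (hK _ htrK).2
  · rintro q (rfl | ⟨hq, -, hn⟩)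
    · refine ⟨Nat.prime_two, _, ⟨_, hxrK, rfl⟩, two_dvd_index (fun h => ?_) hxrK⟩
      exact ne_inv_of_odd hx1 hxodd (congrArg Subtype.val h)
    · exact ⟨hq, hn⟩
  · intro q hq hn
    rcases eq_or_ne q 2 with h | h
    · exact Or.inl h
    · exact Or.inr ⟨hq, h, hn⟩
  · rintro a rfl c ⟨hc, hc2, -⟩ n hn ⟨han, hcn⟩
    rcases hpow n hn with ho | ⟨j, rfl⟩
    · exact Nat.not_odd_iff_even.2 (even_iff_two_dvd.2 han) ho
    · exact hc2 ((Nat.prime_dvd_prime_iff_eq hc Nat.prime_two).1 (hc.dvd_of_dvd_pow hcn))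

end

end Cfsg.Agent.H64.RealGraph

namespace Cfsg.Agent.H64.RealGraph

universe v

/-- The structure theorem, given that the group is soluble. -/
theorem structure_of_disconnected {G : Type v} [Group G] [Finite G] (hsolv : Group.IsSolvable G)
    {π₁ π₂ : Set ℕ} (h₁ : π₁.Nonempty) (h₂ : π₂.Nonempty) (hdisj : Disjoint π₁ π₂)
    (hsub : ∀ q ∈ π₁ ∪ π₂, q.Prime ∧ ∃ n ∈ realSizes G, q ∣ n)
    (hcover : ∀ q : ℕ, q.Prime → (∃ n ∈ realSizes G, q ∣ n) → q ∈ π₁ ∨ q ∈ π₂)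
    (hnoedge : ∀ a ∈ π₁, ∀ b ∈ π₂, ∀ n ∈ realSizes G, ¬ (a ∣ n ∧ b ∣ n)) :
    (∃ n ∈ realSizes G, 2 ∣ n) ∧
    ((∀ P : Sylow 2 G, (P : Subgroup G).Normal) ∨
      ((∃ ρ₁ ρ₂ : Set ℕ, ρ₁.Nonempty ∧ ρ₂.Nonempty ∧ Disjoint ρ₁ ρ₂ ∧
          (∀ q ∈ ρ₁ ∪ ρ₂, q.Prime ∧ ∃ n ∈ realSizes (twoGen G), q ∣ n) ∧
          (∀ q : ℕ, q.Prime → (∃ n ∈ realSizes (twoGen G), q ∣ n) → q ∈ ρ₁ ∨ q ∈ ρ₂) ∧
          ∀ a ∈ ρ₁, ∀ b ∈ ρ₂, ∀ n ∈ realSizes (twoGen G), ¬ (a ∣ n ∧ b ∣ n)) ∧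
        ∀ n ∈ realSizes (twoGen G), Odd n ∨ ∃ j : ℕ, n = 2 ^ j)) := by
  have h := exists_even h₁ h₂ hsub hcover hnoedge
  refine ⟨h, ?_⟩
  rcases hcover 2 Nat.prime_two h with h2 | h2
  · exact structure_of_two_mem hsolv h2 h₂ hdisj hsub hcover hnoedge
  · exact structure_of_two_mem hsolv h2 h₁ hdisj.symm
      (fun q hq => hsub q (Or.symm hq)) (fun q hq hn => (hcover q hq hn).symm)
      (fun a ha b hb n hn h => hnoedge b hb a ha n hn ⟨h.2, h.1⟩)

end Cfsg.Agent.H64.RealGraph
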